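import Groth.Agent.Misc3Fitt.Basic
import Mathlib

/-! Fitting ideals of the cokernel of a matrix and of its transpose. -/

set_option autoImplicit false
set_option linter.style.haveILetI false
set_option backward.isDefEq.respectTransparency false

universe u

namespace Groth.CompKaehler

open Groth.Misc3Fitt

variable {R : Type u} [CommRing R] {r c : ℕ}

/-- The maximal minors of rows and of columns agree. -/
theorem minors_transpose (z : Fin c → Fin r → R) :
    minors (Submodule.span R (Set.range z)) c =
      minors (Submodule.span R (Set.range fun i => fun j => z j i)) c := by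
  rw [minors_span_eq, minors_span_eq]
  refine le_antisymm (Ideal.span_le.2 ?_) (Ideal.span_le.2 ?_)
  · rintro _ ⟨w, e, hw, rfl⟩
    choose f hf using hw
    obtain rfl : (fun b => z (f b)) = w := funext hf
    refine Ideal.subset_span ⟨fun b => fun j => z j (e b), f, fun b => ⟨e b, rfl⟩, ?_⟩
    simp only [minor]
    exact (Matrix.det_transpose (Matrix.of fun b a => z (f b) (e a))).symm
  · rintro _ ⟨w, e, hw, rfl⟩
    choose f hf using hw
    obtain rfl : (fun b => fun j => z j (f b)) = w := funext hf
    refine Ideal.subset_span ⟨fun b => z (e b), f, fun b => ⟨e b, rfl⟩, ?_⟩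
    simp only [minor]
    exact (Matrix.det_transpose (Matrix.of fun b a => z (e a) (f b))).symm

/-- The Fitting ideal of the cokernel of an injective matrix equals that of the cokernel of its transpose. -/
theorem fitt_coker_eq {M E : Type u} [AddCommGroup M] [Module R M] [AddCommGroup E] [Module R E]
    (z : Fin c → Fin r → R) (π : (Fin r → R) →ₗ[R] M) (hinj : Function.Injective (Fintype.linearCombination R z))
    (hex : Function.Exact (Fintype.linearCombination R z) π) (hπ : Function.Surjective π)
    (δ : ((Fin c → R) →ₗ[R] R) →ₗ[R] E) (hδ : Function.Surjective δ)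
    (hδk : ∀ x, δ x = 0 ↔ ∃ ψ : (Fin r → R) →ₗ[R] R, ψ ∘ₗ Fintype.linearCombination R z = x) :
    Fitt.ideal R M (r - c) = Fitt.ideal R E 0 := by
  rcases subsingleton_or_nontrivial R with hR | hR
  · exact Subsingleton.elim _ _
  have hcr : c ≤ r := le_of_fin_injective R _ hinj
  let gM : Fin r → M := fun i => π (Pi.single i 1)
  have hgM : Fintype.linearCombination R gM = π :=
    LinearMap.pi_ext' fun i => LinearMap.ext_ring (by simp [gM])
  have hspanM : Submodule.span R (Set.range gM) = ⊤ := by
    rw [← Fintype.range_linearCombination, hgM, LinearMap.range_eq_top.2 hπ]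
  let p : (Fin c → R) →ₗ[R] ((Fin c → R) →ₗ[R] R) := Fintype.linearCombination R fun j => LinearMap.proj j
  have hp : ∀ v w, p v w = ∑ j, v j * w j := fun v w => by simp [p, Fintype.linearCombination_apply]
  let gE : Fin c → E := fun j => δ (LinearMap.proj j)
  have hgE : Fintype.linearCombination R gE = δ ∘ₗ p :=
    LinearMap.pi_ext' fun j => LinearMap.ext_ring (by simp [gE, p])
  have hps : Function.Surjective p := fun x => ⟨fun j => x (Pi.single j 1),
    LinearMap.pi_ext' fun j => LinearMap.ext_ring (by simp [hp, Pi.single_apply])⟩
  have hspanE : Submodule.span R (Set.range gE) = ⊤ := by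
    rw [← Fintype.range_linearCombination, hgE, LinearMap.range_eq_top]
    exact hδ.comp hps
  rw [ideal_eq_fitt gM hspanM, ideal_eq_fitt gE hspanE, fitt, fitt, Nat.sub_sub_self hcr, Nat.sub_zero]
  have hrelM : rel (R := R) gM = Submodule.span R (Set.range z) := by
    rw [rel, hgM, ← Fintype.range_linearCombination, LinearMap.exact_iff.1 hex]
  have hrelE : rel (R := R) gE = Submodule.span R (Set.range fun i => fun j => z j i) := by
    rw [← Fintype.range_linearCombination]
    ext v
    rw [rel, hgE, LinearMap.mem_ker, LinearMap.comp_apply, hδk, LinearMap.mem_range]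
    constructor
    · rintro ⟨ψ, hψ⟩
      refine ⟨fun i => ψ (Pi.single i 1), funext fun j => ?_⟩
      have h1 := LinearMap.congr_fun hψ (Pi.single j 1)
      rw [LinearMap.comp_apply, Fintype.linearCombination_apply_single, one_smul, hp] at h1
      rw [show v j = ψ (z j) by simpa [Pi.single_apply] using h1.symm]
      conv_rhs => rw [pi_eq_sum_univ' (z j), map_sum]
      simp [Fintype.linearCombination_apply, Finset.sum_apply, mul_comm]
    · rintro ⟨w, rfl⟩
      refine ⟨Fintype.linearCombination R w, LinearMap.pi_ext' fun j => LinearMap.ext_ring ?_⟩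
      simp [hp, Fintype.linearCombination_apply, Finset.sum_apply, Pi.single_apply, mul_comm]
  rw [hrelM, hrelE]
  exact minors_transpose z

end Groth.CompKaehler
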