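import Groth.Agent.Ega41Adic.CompletionFinite
import Mathlib

/-! The Jacobian presentation of the completed differentials of a quotient of a completed polynomial ring. -/

set_option autoImplicit false
set_option linter.style.haveILetI false
set_option linter.style.longLine false
set_option backward.isDefEq.respectTransparency false
set_option backward.isDefEq.respectTransparency.types false

noncomputable section

universe u

namespace Groth.CompKaehler

open MvPolynomial

variable {R : Type u} [CommRing R] (t : R) (r : ℕ)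

/-- The ideal of completion. -/
abbrev I₀ : Ideal (MvPolynomial (Fin r) R) := Ideal.span {MvPolynomial.C (σ := Fin r) t}

/-- The completed polynomial ring. -/
abbrev Ahat : Type u := AdicCompletion (I₀ t r) (MvPolynomial (Fin r) R)

/-- The completion map as a map of algebras. -/
def ι : MvPolynomial (Fin r) R →ₐ[R] Ahat t r :=
  { algebraMap (MvPolynomial (Fin r) R) (Ahat t r) with
    commutes' := fun _ => rfl }

/-- The image of `t` in the completion. -/
abbrev th : Ahat t r := algebraMap R (Ahat t r) t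

variable {t r}

theorem eval_ι (m : ℕ) (s : MvPolynomial (Fin r) R) :
    AdicCompletion.eval (I₀ t r) _ m (ι t r s) = Submodule.Quotient.mk s := rfl

theorem th_pow (m : ℕ) : th t r ^ m = ι t r (MvPolynomial.C t ^ m) := by
  rw [map_pow]; rfl

theorem mem_span_of_mem_pow_smul {S : Type u} [CommRing S] (I : Ideal S) (u : S) (hI : I = Ideal.span {u})
    {m : ℕ} {Q : Type u} [CommRing Q] [Algebra S Q] {z : Q} (hz : z ∈ I ^ m • (⊤ : Submodule S Q)) :
    z ∈ Ideal.span {algebraMap S Q u ^ m} := by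
  rw [hI, Ideal.span_singleton_pow, Submodule.ideal_span_singleton_smul, Submodule.mem_smul_pointwise_iff_exists] at hz
  obtain ⟨w, -, rfl⟩ := hz
  rw [Algebra.smul_def, map_pow]
  exact Ideal.mul_mem_right _ _ (Ideal.mem_span_singleton_self _)

theorem eval_eq_zero_iff (m : ℕ) (z : Ahat t r) :
    AdicCompletion.eval (I₀ t r) _ m z = 0 ↔ z ∈ Ideal.span {th t r ^ m} := by
  constructor
  · intro h
    have hk : z ∈ I₀ t r ^ m • (⊤ : Submodule (MvPolynomial (Fin r) R) (Ahat t r)) := by
      rw [AdicCompletion.pow_smul_top_eq_ker_eval (Submodule.fg_span_singleton _)]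
      exact h
    exact mem_span_of_mem_pow_smul (I₀ t r) (MvPolynomial.C t) rfl hk
  · intro h
    obtain ⟨w, rfl⟩ := Ideal.mem_span_singleton'.1 h
    rw [th_pow, AdicCompletion.eval_apply, AdicCompletion.val_mul, ← AdicCompletion.eval_apply _ _ _ (ι t r _),
      eval_ι, (Submodule.Quotient.mk_eq_zero _).2, mul_zero]
    rw [smul_eq_mul, Ideal.mul_top]
    exact Ideal.pow_mem_pow (Ideal.mem_span_singleton_self _) m

theorem exists_sub_mem (m : ℕ) (y : Ahat t r) : ∃ s, y - ι t r s ∈ Ideal.span {th t r ^ m} := by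
  obtain ⟨s, hs⟩ := Submodule.Quotient.mk_surjective _ (AdicCompletion.eval (I₀ t r) _ m y)
  exact ⟨s, (eval_eq_zero_iff m _).1 (by rw [map_sub, eval_ι, hs, sub_self])⟩

theorem ι_mem_iff (m : ℕ) (s : MvPolynomial (Fin r) R) :
    ι t r s ∈ Ideal.span {th t r ^ m} ↔ s ∈ Ideal.span {(MvPolynomial.C t : MvPolynomial (Fin r) R) ^ m} := by
  rw [← eval_eq_zero_iff, eval_ι, Submodule.Quotient.mk_eq_zero, smul_eq_mul, Ideal.mul_top, I₀,
    Ideal.span_singleton_pow]

variable {c : ℕ} (a : Fin c → Ahat t r) {B : Type u} [CommRing B] [Algebra R B] (ψ : Ahat t r →ₐ[R] B)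

/-- The ideal of definition of `B`. -/
abbrev IB (t : R) (B : Type u) [CommRing B] [Algebra R B] : Ideal B := Ideal.span {algebraMap R B t}

theorem τ_pow_mem (t : R) (m : ℕ) : algebraMap R B t ^ m ∈ IB t B ^ m :=
  Ideal.pow_mem_pow (Ideal.mem_span_singleton_self (algebraMap R B t)) m

theorem apply_mem_smul_top {S M N : Type*} [CommRing S] [AddCommGroup M] [Module S M] [AddCommGroup N] [Module S N]
    (f : M →ₗ[S] N) {J : Ideal S} {y : M} (hy : y ∈ J • (⊤ : Submodule S M)) :
    f y ∈ J • (⊤ : Submodule S N) := by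
  have h := Submodule.mem_map_of_mem (f := f) hy
  rw [Submodule.map_smul''] at h
  exact (smul_mono_right J (le_top : (⊤ : Submodule S M).map f ≤ ⊤) :) h

/-- The coordinates. -/
def x (i : Fin r) : B := ψ (ι t r (MvPolynomial.X i))

/-- Evaluation of polynomials at the coordinates. -/
def χ : MvPolynomial (Fin r) R →ₐ[R] B := MvPolynomial.aeval (x ψ)

theorem ψ_ι (s : MvPolynomial (Fin r) R) : ψ (ι t r s) = χ ψ s := by
  have h : ψ.comp (ι t r) = χ ψ := MvPolynomial.algHom_ext fun i => by simp [χ, x]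
  exact DFunLike.congr_fun h s

/-- The gradient evaluated at the coordinates. -/
def grad : MvPolynomial (Fin r) R →ₗ[R] (Fin r → B) :=
  LinearMap.pi fun i => (χ ψ).toLinearMap ∘ₗ (MvPolynomial.pderiv i).toLinearMap

theorem grad_apply (s : MvPolynomial (Fin r) R) (i : Fin r) : grad ψ s i = χ ψ (MvPolynomial.pderiv i s) := rfl

theorem grad_mul (s s' : MvPolynomial (Fin r) R) : grad ψ (s * s') = χ ψ s • grad ψ s' + χ ψ s' • grad ψ s := by
  funext i
  simp only [grad_apply, Derivation.leibniz, Pi.add_apply, Pi.smul_apply, smul_eq_mul, map_add, map_mul]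

theorem grad_C (c' : R) : grad ψ (MvPolynomial.C c') = 0 := by
  funext i
  simp [grad_apply]

theorem grad_X (i : Fin r) : grad ψ (MvPolynomial.X i) = Pi.single i 1 := by
  classical
  funext j
  rw [grad_apply, MvPolynomial.pderiv_X, Pi.single_apply, Pi.single_apply]
  by_cases h : i = j
  · simp [h]
  · simp [h, Ne.symm h]

theorem χ_C (c' : R) : χ ψ (MvPolynomial.C c') = algebraMap R B c' := (χ ψ).commutes c'

/-- Membership in `τ^m B^r`. -/
theorem mem_smul_pi (m : ℕ) (v : Fin r → B) :
    v ∈ IB t B ^ m • (⊤ : Submodule B (Fin r → B)) ↔ ∀ i, v i ∈ IB t B ^ m :=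
  Groth.Ega41Adic.mem_smul_top_pi_iff v _

theorem grad_mem {m : ℕ} {d : MvPolynomial (Fin r) R}
    (hd : d ∈ Ideal.span {(MvPolynomial.C t : MvPolynomial (Fin r) R) ^ m}) :
    grad ψ d ∈ IB t B ^ m • (⊤ : Submodule B (Fin r → B)) := by
  obtain ⟨w, rfl⟩ := Ideal.mem_span_singleton'.1 hd
  rw [grad_mul, ← map_pow (MvPolynomial.C), grad_C, smul_zero, zero_add, χ_C, map_pow]
  exact Submodule.smul_mem_smul (τ_pow_mem t m) Submodule.mem_top

/-- Chosen approximations of the equations. -/
def sa (m : ℕ) (j : Fin c) : MvPolynomial (Fin r) R := (exists_sub_mem m (a j)).choose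

theorem sa_spec (m : ℕ) (j : Fin c) : a j - ι t r (sa a m j) ∈ Ideal.span {th t r ^ m} :=
  (exists_sub_mem m (a j)).choose_spec

variable [IsAdicComplete (IB t B) B]

theorem exists_jac (j : Fin c) (i : Fin r) :
    ∃ L : B, ∀ m, grad ψ (sa a m j) i - L ∈ IB t B ^ m := by
  obtain ⟨L, hL⟩ := IsPrecomplete.prec (inferInstance : IsPrecomplete (IB t B) B)
    (f := fun m => grad ψ (sa a m j) i) (fun {m n} hmn => by
      rw [SModEq.sub_mem, smul_eq_mul, Ideal.mul_top]
      have h1 : ι t r (sa a m j - sa a n j) ∈ Ideal.span {th t r ^ m} := by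
        rw [map_sub, show ι t r (sa a m j) - ι t r (sa a n j) =
          (a j - ι t r (sa a n j)) - (a j - ι t r (sa a m j)) by abel]
        refine sub_mem (Ideal.span_singleton_le_span_singleton.2 (pow_dvd_pow _ hmn) (sa_spec a n j)) (sa_spec a m j)
      have h2 := (mem_smul_pi m _).1 (grad_mem ψ ((ι_mem_iff m _).1 h1)) i
      rwa [map_sub, Pi.sub_apply] at h2)
  exact ⟨L, fun m => by simpa [SModEq.sub_mem] using hL m⟩

/-- The Jacobian, by columns. -/
def jac (j : Fin c) (i : Fin r) : B := (exists_jac a ψ j i).choose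

theorem jac_spec (m : ℕ) (j : Fin c) : grad ψ (sa a m j) - jac a ψ j ∈ IB t B ^ m • (⊤ : Submodule B (Fin r → B)) :=
  (mem_smul_pi m _).2 fun i => (exists_jac a ψ j i).choose_spec m

/-- The Jacobian map. -/
def jacMap : (Fin c → B) →ₗ[B] (Fin r → B) := Fintype.linearCombination B (jac a ψ)

/-- Generators of the differentials. -/
def π₀ : (Fin r → B) →ₗ[B] KaehlerDifferential R B :=
  Fintype.linearCombination B fun i => KaehlerDifferential.D R B (x ψ i)

omit [IsAdicComplete (IB t B) B] in
theorem D_χ (s : MvPolynomial (Fin r) R) : KaehlerDifferential.D R B (χ ψ s) = π₀ ψ (grad ψ s) := by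
  induction s using MvPolynomial.induction_on with
  | C c' => rw [χ_C, Derivation.map_algebraMap, grad_C, map_zero]
  | add p q hp hq => rw [map_add, map_add, map_add, map_add, hp, hq]
  | mul_X p i hp =>
    rw [map_mul, Derivation.leibniz, grad_mul, map_add, map_smul, map_smul, hp, grad_X]
    congr 1
    · congr 1
      rw [π₀, Fintype.linearCombination_apply_single, one_smul, χ, MvPolynomial.aeval_X]

section Surj

variable (hψ : Function.Surjective ψ)
include hψ

omit [IsAdicComplete (IB t B) B] in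
theorem exists_χ (m : ℕ) (b : B) : ∃ s, b - χ ψ s ∈ IB t B ^ m := by
  obtain ⟨y, rfl⟩ := hψ b
  obtain ⟨s, hs⟩ := exists_sub_mem m y
  obtain ⟨z, hz⟩ := Ideal.mem_span_singleton'.1 hs
  refine ⟨s, ?_⟩
  rw [← ψ_ι, ← map_sub, ← hz, map_mul, map_pow, AlgHom.commutes]
  exact Ideal.mul_mem_left _ _ (τ_pow_mem t m)

omit [IsAdicComplete (IB t B) B] in
theorem range_π₀_sup : LinearMap.range (π₀ ψ) ⊔ IB t B • ⊤ = ⊤ := by
  refine eq_top_iff.2 ((KaehlerDifferential.span_range_derivation R B).ge.trans (Submodule.span_le.2 ?_))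
  rintro _ ⟨b, rfl⟩
  obtain ⟨s, hs⟩ := exists_χ ψ hψ 1 b
  rw [pow_one] at hs
  obtain ⟨e, he⟩ := Ideal.mem_span_singleton'.1 hs
  rw [show b = χ ψ s + (b - χ ψ s) by ring, map_add, D_χ, ← he, Derivation.leibniz, Derivation.map_algebraMap,
    smul_zero, zero_add]
  exact Submodule.add_mem_sup ⟨_, rfl⟩ (Submodule.smul_mem_smul (Ideal.mem_span_singleton_self _) Submodule.mem_top)

theorem of_π₀_surjective :
    Function.Surjective (AdicCompletion.of (IB t B) (KaehlerDifferential R B) ∘ₗ π₀ ψ) :=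
  Groth.Ega41Adic.surjective_of_comp_of_range_sup_eq_top _ _ (range_π₀_sup ψ hψ)

variable (hker : RingHom.ker ψ.toRingHom = Ideal.span (Set.range a))
include hker

omit [IsAdicComplete (IB t B) B] in
theorem exists_sub_sum_mem {m : ℕ} {d : MvPolynomial (Fin r) R} (hd : χ ψ d ∈ IB t B ^ m) :
    ∃ w : Fin c → MvPolynomial (Fin r) R,
      d - ∑ j, w j * sa a m j ∈ Ideal.span {(MvPolynomial.C t : MvPolynomial (Fin r) R) ^ m} := by
  rw [IB, Ideal.span_singleton_pow] at hd
  obtain ⟨e, he⟩ := Ideal.mem_span_singleton'.1 hd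
  obtain ⟨z, rfl⟩ := hψ e
  have hmem : ι t r d - th t r ^ m * z ∈ RingHom.ker ψ.toRingHom := by
    rw [RingHom.mem_ker, AlgHom.toRingHom_eq_coe, AlgHom.coe_toRingHom, map_sub, map_mul, map_pow, AlgHom.commutes,
      ψ_ι, ← he, mul_comm, sub_self]
  rw [hker] at hmem
  obtain ⟨u, hu⟩ := Ideal.mem_span_range_iff_exists_fun.1 hmem
  choose w hw using fun j => exists_sub_mem m (u j)
  refine ⟨w, (ι_mem_iff m _).1 ?_⟩
  rw [map_sub, map_sum, show ι t r d = th t r ^ m * z + ∑ j, u j * a j by rw [hu]; ring, add_sub_assoc,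
    ← Finset.sum_sub_distrib]
  refine add_mem (Ideal.mul_mem_right _ _ (Ideal.mem_span_singleton_self _)) (Submodule.sum_mem _ fun j _ => ?_)
  rw [map_mul, show u j * a j - ι t r (w j) * ι t r (sa a m j) =
    (u j - ι t r (w j)) * a j + ι t r (w j) * (a j - ι t r (sa a m j)) by ring]
  exact add_mem (Ideal.mul_mem_right _ _ (hw j)) (Ideal.mul_mem_left _ _ (sa_spec a m j))

omit hψ [IsAdicComplete (IB t B) B] in
theorem χ_sa_mem (m : ℕ) (j : Fin c) : χ ψ (sa a m j) ∈ IB t B ^ m := by
  obtain ⟨z, hz⟩ := Ideal.mem_span_singleton'.1 (sa_spec a m j)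
  have h0 : ψ (a j) = 0 := by
    have : a j ∈ RingHom.ker ψ.toRingHom := hker ▸ Ideal.subset_span ⟨j, rfl⟩
    exact this
  have : χ ψ (sa a m j) = -(ψ z * algebraMap R B t ^ m) := by
    rw [← ψ_ι, show ι t r (sa a m j) = a j - z * th t r ^ m by rw [hz]; ring, map_sub, h0, zero_sub, map_mul,
      map_pow, AlgHom.commutes]
  rw [this]
  exact neg_mem (Ideal.mul_mem_left _ _ (τ_pow_mem t m))

theorem grad_mem_range_sup {m : ℕ} {d : MvPolynomial (Fin r) R} (hd : χ ψ d ∈ IB t B ^ m) :
    grad ψ d ∈ LinearMap.range (jacMap a ψ) ⊔ IB t B ^ m • (⊤ : Submodule B (Fin r → B)) := by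
  obtain ⟨w, hw⟩ := exists_sub_sum_mem a ψ hψ hker hd
  rw [show d = (d - ∑ j, w j * sa a m j) + ∑ j, w j * sa a m j by ring, map_add, map_sum]
  refine add_mem (Submodule.mem_sup_right (grad_mem ψ hw)) (Submodule.sum_mem _ fun j _ => ?_)
  rw [grad_mul]
  refine add_mem ?_ (Submodule.mem_sup_right (Submodule.smul_mem_smul (χ_sa_mem a ψ hker m j) Submodule.mem_top))
  refine Submodule.smul_mem _ _ ?_
  rw [← sub_add_cancel (grad ψ (sa a m j)) (jac a ψ j)]
  refine add_mem (Submodule.mem_sup_right (jac_spec a ψ m j)) (Submodule.mem_sup_left ⟨Pi.single j 1, ?_⟩)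
  rw [jacMap, Fintype.linearCombination_apply_single, one_smul]

omit hψ in
theorem π₀_jacMap_mem (m : ℕ) (v : Fin c → B) :
    π₀ ψ (jacMap a ψ v) ∈ IB t B ^ m • (⊤ : Submodule B (KaehlerDifferential R B)) := by
  rw [jacMap, Fintype.linearCombination_apply, map_sum]
  refine Submodule.sum_mem _ fun j _ => ?_
  rw [map_smul]
  refine Submodule.smul_mem _ _ ?_
  rw [show jac a ψ j = grad ψ (sa a m j) - (grad ψ (sa a m j) - jac a ψ j) by abel, map_sub, ← D_χ]
  refine sub_mem ?_ ?_
  · have := χ_sa_mem a ψ hker m j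
    rw [IB, Ideal.span_singleton_pow] at this
    obtain ⟨e, he⟩ := Ideal.mem_span_singleton'.1 this
    rw [← he, ← map_pow, Derivation.leibniz, Derivation.map_algebraMap, smul_zero, zero_add]
    exact Submodule.smul_mem_smul (by rw [map_pow]; exact τ_pow_mem t m)
      Submodule.mem_top
  · exact apply_mem_smul_top (π₀ ψ) (jac_spec a ψ m j)

/-- The relations among the differentials of the coordinates modulo `τ^m`. -/
theorem mem_range_sup_of_π₀_mem {m : ℕ} {v : Fin r → B}
    (hv : π₀ ψ v ∈ IB t B ^ m • (⊤ : Submodule B (KaehlerDifferential R B))) :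
    v ∈ LinearMap.range (jacMap a ψ) ⊔ IB t B ^ m • (⊤ : Submodule B (Fin r → B)) := by
  let N := LinearMap.range (jacMap a ψ) ⊔ IB t B ^ m • (⊤ : Submodule B (Fin r → B))
  choose l hl using exists_χ ψ hψ m
  let f : B → (Fin r → B) ⧸ N := fun b => Submodule.Quotient.mk (grad ψ (l b))
  have hf : ∀ (b : B) (s : MvPolynomial (Fin r) R), b - χ ψ s ∈ IB t B ^ m →
      f b = Submodule.Quotient.mk (grad ψ s) := fun b s hs => by
    refine (Submodule.Quotient.eq N).2 ?_
    rw [← map_sub]
    refine grad_mem_range_sup a ψ hψ hker ?_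
    rw [map_sub, show χ ψ (l b) - χ ψ s = (b - χ ψ s) - (b - χ ψ (l b)) by ring]
    exact sub_mem hs (hl b)
  let δ : Derivation R B ((Fin r → B) ⧸ N) := Derivation.mk'
    { toFun := f
      map_add' := fun p q => by
        rw [hf (p + q) (l p + l q) (by
          rw [map_add, show p + q - (χ ψ (l p) + χ ψ (l q)) = (p - χ ψ (l p)) + (q - χ ψ (l q)) by ring]
          exact add_mem (hl p) (hl q)), map_add]
        rfl
      map_smul' := fun k p => by
        rw [hf (k • p) (k • l p) (by rw [map_smul, ← smul_sub, Algebra.smul_def]; exact Ideal.mul_mem_left _ _ (hl p)),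
          map_smul]
        rfl }
    fun p q => by
      show f (p * q) = p • f q + q • f p
      rw [hf (p * q) (l p * l q) (by
        rw [map_mul, show p * q - χ ψ (l p) * χ ψ (l q) =
          (p - χ ψ (l p)) * q + χ ψ (l p) * (q - χ ψ (l q)) by ring]
        exact add_mem (Ideal.mul_mem_right _ _ (hl p)) (Ideal.mul_mem_left _ _ (hl q))), grad_mul]
      rw [← Submodule.Quotient.mk_smul, ← Submodule.Quotient.mk_smul, ← Submodule.Quotient.mk_add]
      refine (Submodule.Quotient.eq N).2 (Submodule.mem_sup_right ?_)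
      rw [show χ ψ (l p) • grad ψ (l q) + χ ψ (l q) • grad ψ (l p) - (p • grad ψ (l q) + q • grad ψ (l p)) =
        (χ ψ (l p) - p) • grad ψ (l q) + (χ ψ (l q) - q) • grad ψ (l p) by rw [sub_smul, sub_smul]; abel]
      exact add_mem (Submodule.smul_mem_smul (by rw [← neg_sub]; exact neg_mem (hl p)) Submodule.mem_top)
        (Submodule.smul_mem_smul (by rw [← neg_sub]; exact neg_mem (hl q)) Submodule.mem_top)
  have hΦ : δ.liftKaehlerDifferential ∘ₗ π₀ ψ = N.mkQ := by
    refine LinearMap.pi_ext' fun i => LinearMap.ext_ring ?_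
    simp only [LinearMap.comp_apply, LinearMap.single_apply, π₀, Fintype.linearCombination_apply_single, one_smul,
      Derivation.liftKaehlerDifferential_comp_D, Submodule.mkQ_apply]
    show f (x ψ i) = _
    rw [hf (x ψ i) (MvPolynomial.X i) (by simp [χ]), grad_X]
  have h0 : δ.liftKaehlerDifferential (π₀ ψ v) = 0 := by
    have h := Submodule.mem_map_of_mem (f := δ.liftKaehlerDifferential) hv
    rw [Submodule.map_smul''] at h
    have hz : IB t B ^ m • (⊤ : Submodule B ((Fin r → B) ⧸ N)) = ⊥ := by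
      rw [eq_bot_iff, Submodule.smul_le]
      intro e he y _
      obtain ⟨y, rfl⟩ := Submodule.Quotient.mk_surjective N y
      rw [Submodule.mem_bot, ← Submodule.Quotient.mk_smul, Submodule.Quotient.mk_eq_zero]
      exact Submodule.mem_sup_right (Submodule.smul_mem_smul he Submodule.mem_top)
    have h' := (smul_mono_right (IB t B ^ m) le_top : _ ≤ IB t B ^ m • (⊤ : Submodule B ((Fin r → B) ⧸ N))) h
    rwa [hz, Submodule.mem_bot] at h'
  have := (LinearMap.congr_fun hΦ v).symm.trans h0
  rwa [Submodule.mkQ_apply, Submodule.Quotient.mk_eq_zero] at this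

/-- The Jacobian presentation of the completed differentials. -/
theorem exact_jacMap [IsNoetherianRing B] :
    Function.Exact (jacMap a ψ) (AdicCompletion.of (IB t B) (KaehlerDifferential R B) ∘ₗ π₀ ψ) := by
  intro v
  constructor
  · intro hv
    have hall : ∀ m, π₀ ψ v ∈ IB t B ^ m • (⊤ : Submodule B (KaehlerDifferential R B)) := fun m => by
      have h := congrArg (AdicCompletion.eval (IB t B) _ m) hv
      rwa [LinearMap.comp_apply, AdicCompletion.eval_of, map_zero, Submodule.mkQ_apply, Submodule.Quotient.mk_eq_zero]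
        at h
    let N := LinearMap.range (jacMap a ψ)
    have hjac : IB t B ≤ Ideal.jacobson ⊥ := IsAdicComplete.le_jacobson_bot _
    haveI : IsHausdorff (IB t B) ((Fin r → B) ⧸ N) := IsHausdorff.of_le_jacobson _ _ hjac
    have h0 : (Submodule.Quotient.mk v : (Fin r → B) ⧸ N) = 0 := by
      refine IsHausdorff.haus ‹_› _ fun m => ?_
      rw [SModEq.zero]
      obtain ⟨p, hp, q, hq, hpq⟩ := Submodule.mem_sup.1 (mem_range_sup_of_π₀_mem a ψ hψ hker (hall m))
      rw [← hpq, Submodule.Quotient.mk_add, (Submodule.Quotient.mk_eq_zero N).2 hp, zero_add]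
      exact apply_mem_smul_top N.mkQ hq
    rwa [Submodule.Quotient.mk_eq_zero] at h0
  · rintro ⟨w, rfl⟩
    refine AdicCompletion.ext fun m => ?_
    rw [LinearMap.comp_apply, AdicCompletion.of_apply]
    exact (Submodule.Quotient.mk_eq_zero _).2 (π₀_jacMap_mem a ψ hker m w)

end Surj

end Groth.CompKaehler

end
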