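import Groth.Agent.CompKaehler.PowerSeriesBase
import Groth.Agent.CompKaehler.FittExt
import Groth.Agent.ArtfunDeform.CotT.ExtT2

/-! Presentations of the completed differentials and of those of the levels. -/

set_option autoImplicit false
set_option linter.style.haveILetI false
set_option linter.style.longLine false
set_option backward.isDefEq.respectTransparency false
set_option backward.isDefEq.respectTransparency.types false

noncomputable section

universe u

open TensorProduct

namespace Groth.CompKaehler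

section Quot

variable {B M N : Type u} [CommRing B] (I : Ideal B) [AddCommGroup M] [Module B M] [AddCommGroup N] [Module B N]

theorem one_tmul_eq_zero_iff (x : M) : (1 : B ⧸ I) ⊗ₜ[B] x = 0 ↔ x ∈ I • (⊤ : Submodule B M) := by
  rw [← (TensorProduct.quotTensorEquivQuotSMul M I).map_eq_zero_iff, ← map_one (Ideal.Quotient.mk I),
    TensorProduct.quotTensorEquivQuotSMul_mk_tmul, one_smul, Submodule.Quotient.mk_eq_zero]

theorem exists_one_tmul (z : (B ⧸ I) ⊗[B] M) : ∃ x : M, (1 : B ⧸ I) ⊗ₜ[B] x = z :=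
  TensorProduct.mk_surjective B M (B ⧸ I) Ideal.Quotient.mk_surjective z

theorem baseChange_injective_of (f : M →ₗ[B] N)
    (h : ∀ x, f x ∈ I • (⊤ : Submodule B N) → x ∈ I • (⊤ : Submodule B M)) :
    Function.Injective (f.baseChange (B ⧸ I)) := by
  rw [← LinearMap.ker_eq_bot, Submodule.eq_bot_iff]
  intro z hz
  obtain ⟨x, rfl⟩ := exists_one_tmul I z
  rw [LinearMap.mem_ker, LinearMap.baseChange_tmul, one_tmul_eq_zero_iff] at hz
  exact (one_tmul_eq_zero_iff I x).2 (h x hz)

end Quot

variable {R : Type u} [CommRing R] {t : R} {r c : ℕ} (a : Fin c → Ahat t r) {B : Type u} [CommRing B] [Algebra R B]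
  (ψ : Ahat t r →ₐ[R] B) [IsAdicComplete (IB t B) B]

omit [IsAdicComplete (IB t B) B] in
/-- The differentials of a level are the base change of those of the ring. -/
theorem mapBaseChange_injective_level (m : ℕ) :
    Function.Injective (KaehlerDifferential.mapBaseChange R B (B ⧸ Ideal.span {algebraMap R B t ^ m})) := by
  rw [← LinearMap.ker_eq_bot, Submodule.eq_bot_iff]
  intro z hz
  obtain ⟨z, rfl⟩ := (KaehlerDifferential.exact_kerCotangentToTensor_mapBaseChange R B
    (B ⧸ Ideal.span {algebraMap R B t ^ m}) Ideal.Quotient.mk_surjective z).1 hz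
  obtain ⟨⟨y, hy⟩, rfl⟩ := Ideal.toCotangent_surjective _ z
  rw [KaehlerDifferential.kerCotangentToTensor_toCotangent, one_tmul_eq_zero_iff]
  obtain ⟨e, rfl⟩ := Ideal.mem_span_singleton'.1 (Ideal.Quotient.eq_zero_iff_mem.1 (show
    Ideal.Quotient.mk (Ideal.span {algebraMap R B t ^ m}) y = 0 from hy))
  show KaehlerDifferential.D R B (e * algebraMap R B t ^ m) ∈ _
  have he : KaehlerDifferential.D R B (algebraMap R B t ^ m) = 0 := by rw [← map_pow, Derivation.map_algebraMap]
  rw [Derivation.leibniz, he, smul_zero, zero_add]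
  exact Submodule.smul_mem_smul (Ideal.mem_span_singleton_self _) Submodule.mem_top

section Level

variable (hψ : Function.Surjective ψ) (hker : RingHom.ker ψ.toRingHom = Ideal.span (Set.range a))
include hψ hker

/-- The Jacobian presentation of the differentials of a level. -/
theorem level_presentation (m : ℕ) :
    Function.Surjective (KaehlerDifferential.mapBaseChange R B (B ⧸ Ideal.span {algebraMap R B t ^ m}) ∘ₗ
        (π₀ ψ).baseChange (B ⧸ Ideal.span {algebraMap R B t ^ m})) ∧
      Function.Exact ((jacMap a ψ).baseChange (B ⧸ Ideal.span {algebraMap R B t ^ m}))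
        (KaehlerDifferential.mapBaseChange R B (B ⧸ Ideal.span {algebraMap R B t ^ m}) ∘ₗ
          (π₀ ψ).baseChange (B ⧸ Ideal.span {algebraMap R B t ^ m})) := by
  have hI : IB t B ^ m = Ideal.span {algebraMap R B t ^ m} := Ideal.span_singleton_pow _ _
  refine ⟨(KaehlerDifferential.mapBaseChange_surjective R B _ Ideal.Quotient.mk_surjective).comp ?_, ?_⟩
  · intro z
    obtain ⟨w, rfl⟩ := exists_one_tmul _ z
    have hsup : ∀ j : ℕ, LinearMap.range (π₀ ψ) ⊔ IB t B ^ j • ⊤ = ⊤ := by
      intro j
      induction j with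
      | zero => rw [pow_zero, Ideal.one_eq_top, Submodule.top_smul, sup_top_eq]
      | succ j ih =>
        refine eq_top_iff.2 ?_
        conv_lhs => rw [← ih]
        refine sup_le le_sup_left ?_
        conv_lhs => rw [← range_π₀_sup ψ hψ, Submodule.smul_sup, ← mul_smul, ← pow_succ]
        exact sup_le (Submodule.smul_le_right.trans le_sup_left) le_sup_right
    obtain ⟨_, ⟨v, rfl⟩, q, hq, rfl⟩ := Submodule.mem_sup.1 ((hsup m).ge (Submodule.mem_top (x := w)))
    refine ⟨1 ⊗ₜ v, ?_⟩
    rw [LinearMap.baseChange_tmul, TensorProduct.tmul_add, (one_tmul_eq_zero_iff _ q).2 (hI ▸ hq), add_zero]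
  · intro z
    obtain ⟨v, rfl⟩ := exists_one_tmul _ z
    rw [LinearMap.comp_apply, map_eq_zero_iff _ (mapBaseChange_injective_level m), LinearMap.baseChange_tmul,
      one_tmul_eq_zero_iff]
    constructor
    · intro hv
      obtain ⟨_, ⟨w, rfl⟩, q, hq, hwq⟩ := Submodule.mem_sup.1 (mem_range_sup_of_π₀_mem a ψ hψ hker (hI.symm ▸ hv))
      refine ⟨1 ⊗ₜ w, ?_⟩
      rw [LinearMap.baseChange_tmul, ← hwq, TensorProduct.tmul_add, (one_tmul_eq_zero_iff _ q).2 (hI ▸ hq), add_zero]
    · rintro ⟨z, hz⟩
      obtain ⟨w, rfl⟩ := exists_one_tmul _ z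
      rw [LinearMap.baseChange_tmul, ← sub_eq_zero, ← TensorProduct.tmul_sub, one_tmul_eq_zero_iff] at hz
      rw [← sub_sub_cancel (π₀ ψ (jacMap a ψ w)) (π₀ ψ v), ← map_sub]
      exact sub_mem (hI ▸ π₀_jacMap_mem a ψ hker m w) (apply_mem_smul_top (π₀ ψ) hz)

end Level

end Groth.CompKaehler

namespace Groth.CompKaehler

variable {k : Type u} [Field k] [IsAlgClosed k] {r c : ℕ}
  (a : Fin c → Ahat (PowerSeries.X : PowerSeries k) r) {B : Type u} [CommRing B] [Algebra (PowerSeries k) B]
  (ψ : Ahat (PowerSeries.X : PowerSeries k) r →ₐ[PowerSeries k] B)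
  [IsAdicComplete (IB (PowerSeries.X : PowerSeries k) B) B] [Module.Flat (PowerSeries k) B]
  [IsReduced (B ⧸ IB (PowerSeries.X : PowerSeries k) B)]

/-- Injectivity of the Jacobian on every level. -/
theorem mem_smul_of_jacMap_mem_pow (hψ : Function.Surjective ψ)
    (hker : RingHom.ker ψ.toRingHom = Ideal.span (Set.range a))
    (hreg : ∀ n : ℕ, RingTheory.Sequence.IsRegular
      (Ahat (PowerSeries.X : PowerSeries k) r ⧸ Ideal.span {th (PowerSeries.X : PowerSeries k) r ^ (n + 1)})
      ((List.ofFn a).map (Ideal.Quotient.mk (Ideal.span {th (PowerSeries.X : PowerSeries k) r ^ (n + 1)}))))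
    (m : ℕ) (v : Fin c → B)
    (hv : jacMap a ψ v ∈ IB (PowerSeries.X : PowerSeries k) B ^ m • (⊤ : Submodule B (Fin r → B))) :
    v ∈ IB (PowerSeries.X : PowerSeries k) B ^ m • (⊤ : Submodule B (Fin c → B)) :=
  mem_smul_of_jacMap_mem a ψ (IsSMulRegular.of_flat (S := B) (IsSMulRegular.of_right_eq_zero_of_smul fun y hy => (mul_eq_zero.1 hy).resolve_left PowerSeries.X_ne_zero))
    (jacMap_injective_fibre a ψ hψ hker (hreg 0).1) m v hv

theorem jacMap_injective' (hψ : Function.Surjective ψ)
    (hker : RingHom.ker ψ.toRingHom = Ideal.span (Set.range a))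
    (hreg : ∀ n : ℕ, RingTheory.Sequence.IsRegular
      (Ahat (PowerSeries.X : PowerSeries k) r ⧸ Ideal.span {th (PowerSeries.X : PowerSeries k) r ^ (n + 1)})
      ((List.ofFn a).map (Ideal.Quotient.mk (Ideal.span {th (PowerSeries.X : PowerSeries k) r ^ (n + 1)})))) :
    Function.Injective (jacMap a ψ) :=
  jacMap_injective a ψ (IsSMulRegular.of_flat (S := B) (IsSMulRegular.of_right_eq_zero_of_smul fun y hy => (mul_eq_zero.1 hy).resolve_left PowerSeries.X_ne_zero))
    (jacMap_injective_fibre a ψ hψ hker (hreg 0).1)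

end Groth.CompKaehler

end
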