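import Groth.Agent.CompKaehler.Jac
import Groth.Agent.KoszulLCI.Regular
import Groth.Agent.KoszulLCI.SmoothCancel
import Groth.Agent.Calg5.RelGCIFlat
import Mathlib

/-! The completed Jacobian of a flat family of complete intersections with reduced closed fibre is injective. -/

set_option autoImplicit false
set_option linter.style.haveILetI false
set_option linter.style.longLine false
set_option backward.isDefEq.respectTransparency false
set_option backward.isDefEq.respectTransparency.types false

noncomputable section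

universe u

namespace Groth.CompKaehler

open MvPolynomial

/-- On a reduced algebra over a perfect field the first cotangent homology vanishes near the minimal primes. -/
theorem exists_smul_eq_zero_of_minimalPrimes {k P : Type u} [Field k] [PerfectField k] [CommRing P] [IsReduced P]
    [Algebra k P] {n : ℕ} (G : Algebra.Generators k P (Fin n)) (p : Ideal P) (hp : p ∈ minimalPrimes P)
    (z : G.toExtension.H1Cotangent) : ∃ t : P, t ∉ p ∧ t • z = 0 := by
  haveI := hp.1.1
  haveI : Ring.KrullDimLE 0 (Localization.AtPrime p) := .of_isLocalization _ hp _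
  letI : Field (Localization.AtPrime p) := Ring.KrullDimLE.isField_of_isReduced.toField
  haveI : Algebra.FiniteType k P := G.finiteType
  haveI : Algebra.EssFiniteType k (Localization.AtPrime p) := Algebra.EssFiniteType.comp k P _
  haveI : Algebra.FormallySmooth k (Localization.AtPrime p) := Algebra.FormallySmooth.of_perfectField
  haveI : Subsingleton (Algebra.H1Cotangent k (Localization.AtPrime p)) :=
    Algebra.FormallySmooth.subsingleton_h1Cotangent
  have h0 : Algebra.H1Cotangent.map k k P (Localization.AtPrime p) (G.equivH1Cotangent z) =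
      Algebra.H1Cotangent.map k k P (Localization.AtPrime p) 0 := Subsingleton.elim _ _
  obtain ⟨t, ht⟩ := (IsLocalizedModule.eq_iff_exists p.primeCompl
    (Algebra.H1Cotangent.map k k P (Localization.AtPrime p))).mp h0
  rw [smul_zero, Submonoid.smul_def, ← map_smul] at ht
  exact ⟨t, t.2, G.equivH1Cotangent.map_eq_zero_iff.1 ht⟩

/-- A relation in the square of an ideal gives a relation in the conormal module. -/
theorem sum_smul_toCotangent_eq_zero {A : Type u} [CommRing A] {c : ℕ} (f b : Fin c → A)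
    (h : ∑ j, b j * f j ∈ Ideal.span (Set.range f) ^ 2) :
    ∑ j, Ideal.Quotient.mk (Ideal.span (Set.range f)) (b j) •
      (Ideal.span (Set.range f)).toCotangent ⟨f j, Ideal.subset_span (Set.mem_range_self j)⟩ = 0 := by
  have hlin : ∀ (a : A) (e : (Ideal.span (Set.range f)).Cotangent),
      Ideal.Quotient.mk (Ideal.span (Set.range f)) a • e = a • e := fun a e => algebraMap_smul _ a e
  simp only [hlin, ← map_smul, ← map_sum]
  refine (Ideal.toCotangent_eq_zero _ _).2 ?_
  simpa only [AddSubmonoidClass.coe_finsetSum, SetLike.val_smul, smul_eq_mul] using h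

section

variable {R : Type u} [CommRing R] {t : R} {r c : ℕ} (a : Fin c → Ahat t r) {B : Type u} [CommRing B] [Algebra R B]
  (ψ : Ahat t r →ₐ[R] B) [IsAdicComplete (IB t B) B]

theorem mem_smul_of_jacMap_mem (hτ : IsSMulRegular B (algebraMap R B t))
    (h1 : ∀ v, jacMap a ψ v ∈ IB t B • (⊤ : Submodule B (Fin r → B)) → ∀ j, v j ∈ IB t B) :
    ∀ (m : ℕ) (v : Fin c → B), jacMap a ψ v ∈ IB t B ^ m • (⊤ : Submodule B (Fin r → B)) →
      v ∈ IB t B ^ m • (⊤ : Submodule B (Fin c → B)) := by
  intro m
  induction m with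
  | zero => intro v _; rw [pow_zero, Ideal.one_eq_top, Submodule.top_smul]; trivial
  | succ m ih =>
    intro v hv
    have hv1 := h1 v (Submodule.smul_mono_left (Ideal.pow_le_self (I := IB t B) m.succ_ne_zero) hv)
    choose w hw using fun j => Ideal.mem_span_singleton'.1 (hv1 j)
    have hvw : v = algebraMap R B t • w := funext fun j => by
      rw [Pi.smul_apply, smul_eq_mul, mul_comm]; exact (hw j).symm
    rw [hvw, map_smul, mem_smul_pi] at hv
    rw [hvw, mem_smul_pi]
    have hw' := (mem_smul_pi m w).1 (ih w ((mem_smul_pi m _).2 fun i => ?_))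
    · intro j
      rw [Pi.smul_apply, smul_eq_mul, pow_succ']
      exact Ideal.mul_mem_mul (Ideal.mem_span_singleton_self _) (hw' j)
    · have h2 := hv i
      rw [Pi.smul_apply, smul_eq_mul, IB, Ideal.span_singleton_pow] at h2
      obtain ⟨e, he⟩ := Ideal.mem_span_singleton'.1 h2
      rw [IB, Ideal.span_singleton_pow]
      refine Ideal.mem_span_singleton'.2 ⟨e, hτ ?_⟩
      simp only [smul_eq_mul]
      rw [← he, pow_succ]
      ring

theorem jacMap_injective (hτ : IsSMulRegular B (algebraMap R B t))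
    (h1 : ∀ v, jacMap a ψ v ∈ IB t B • (⊤ : Submodule B (Fin r → B)) → ∀ j, v j ∈ IB t B) :
    Function.Injective (jacMap a ψ) := by
  rw [← LinearMap.ker_eq_bot, Submodule.eq_bot_iff]
  intro v hv
  funext j
  refine IsHausdorff.haus (inferInstance : IsHausdorff (IB t B) B) _ fun m => ?_
  rw [SModEq.zero, smul_eq_mul, Ideal.mul_top]
  exact (mem_smul_pi m v).1 (mem_smul_of_jacMap_mem a ψ hτ h1 m v (by rw [LinearMap.mem_ker.1 hv]; exact zero_mem _)) j

end

section Fibre

variable {k : Type u} [Field k] [PerfectField k] {r c : ℕ}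
  (a : Fin c → Ahat (PowerSeries.X : PowerSeries k) r) {B : Type u} [CommRing B] [Algebra (PowerSeries k) B]
  (ψ : Ahat (PowerSeries.X : PowerSeries k) r →ₐ[PowerSeries k] B)
  [IsAdicComplete (IB (PowerSeries.X : PowerSeries k) B) B]

/-- The Jacobian is injective on the reduced closed fibre of a complete intersection. -/
theorem jacMap_injective_fibre [IsReduced (B ⧸ IB (PowerSeries.X : PowerSeries k) B)] (hψ : Function.Surjective ψ)
    (hker : RingHom.ker ψ.toRingHom = Ideal.span (Set.range a))
    (hreg : RingTheory.Sequence.IsWeaklyRegular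
      (Ahat (PowerSeries.X : PowerSeries k) r ⧸ Ideal.span {th (PowerSeries.X : PowerSeries k) r ^ 1})
      ((List.ofFn a).map (Ideal.Quotient.mk (Ideal.span {th (PowerSeries.X : PowerSeries k) r ^ 1}))))
    (v : Fin c → B)
    (hv : jacMap a ψ v ∈ IB (PowerSeries.X : PowerSeries k) B • (⊤ : Submodule B (Fin r → B))) :
    ∀ j, v j ∈ IB (PowerSeries.X : PowerSeries k) B := by
  classical
  let T : PowerSeries k := PowerSeries.X
  let P := B ⧸ IB T B
  let q : B →+* P := Ideal.Quotient.mk _
  letI : Algebra k P := (q.comp ((algebraMap (PowerSeries k) B).comp (PowerSeries.C (R := k)))).toAlgebra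
  let ρ : MvPolynomial (Fin r) (PowerSeries k) →+* MvPolynomial (Fin r) k :=
    MvPolynomial.map (PowerSeries.constantCoeff (R := k))
  have hρ : Function.Surjective ρ := MvPolynomial.map_surjective _ fun a' => ⟨PowerSeries.C a', PowerSeries.constantCoeff_C a'⟩
  have hkerρ : ∀ s, ρ s = 0 ↔ s ∈ Ideal.span {(MvPolynomial.C T : MvPolynomial (Fin r) (PowerSeries k)) ^ 1} := by
    intro s
    rw [pow_one, Ideal.mem_span_singleton, MvPolynomial.C_dvd_iff_dvd_coeff]
    constructor
    · intro h d
      rw [PowerSeries.X_dvd_iff]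
      simpa [ρ, MvPolynomial.coeff_map] using congrArg (MvPolynomial.coeff d) h
    · intro h
      ext d
      simpa [ρ, MvPolynomial.coeff_map] using PowerSeries.X_dvd_iff.1 (h d)
  let φ : MvPolynomial (Fin r) k →ₐ[k] P := MvPolynomial.aeval fun i => q (x ψ i)
  have hφρ : ∀ s, φ (ρ s) = q (χ ψ s) := by
    intro s
    have h : (φ : MvPolynomial (Fin r) k →+* P).comp ρ = q.comp (χ ψ : MvPolynomial (Fin r) (PowerSeries k) →+* B) := by
      refine MvPolynomial.ringHom_ext (fun b => ?_) fun i => ?_
      · simp only [RingHom.comp_apply, AlgHom.coe_toRingHom, χ_C, ρ, MvPolynomial.map_C, φ, MvPolynomial.aeval_C]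
        refine (Ideal.Quotient.eq).2 ?_
        rw [RingHom.comp_apply, ← map_sub]
        obtain ⟨e, he⟩ : T ∣ PowerSeries.C (PowerSeries.constantCoeff b) - b := PowerSeries.X_dvd_iff.2 (by simp)
        rw [he, map_mul]
        exact Ideal.mul_mem_right _ _ (Ideal.mem_span_singleton_self _)
      · simp [ρ, φ, χ]
    exact RingHom.congr_fun h s
  have hφ : Function.Surjective φ := fun y => by
    obtain ⟨b, rfl⟩ := Ideal.Quotient.mk_surjective y
    obtain ⟨s, hs⟩ := exists_χ ψ hψ 1 b
    rw [pow_one] at hs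
    exact ⟨ρ s, (hφρ s).trans ((Ideal.Quotient.eq).2 (by rw [← neg_sub]; exact neg_mem hs))⟩
  let ab : Fin c → MvPolynomial (Fin r) k := fun j => ρ (sa a 1 j)
  have hkerφ : RingHom.ker φ.toRingHom = Ideal.span (Set.range ab) := by
    refine le_antisymm (fun y hy => ?_) (Ideal.span_le.2 ?_)
    · obtain ⟨s, rfl⟩ := hρ y
      have hs : χ ψ s ∈ IB T B ^ 1 := by
        rw [pow_one]
        exact Ideal.Quotient.eq_zero_iff_mem.1 ((hφρ s).symm.trans hy)
      obtain ⟨w, hw⟩ := exists_sub_sum_mem a ψ hψ hker hs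
      have := (hkerρ _).2 hw
      rw [map_sub, map_sum, sub_eq_zero] at this
      rw [this]
      exact Submodule.sum_mem _ fun j _ => by rw [map_mul]; exact Ideal.mul_mem_left _ _ (Ideal.subset_span ⟨j, rfl⟩)
    · rintro _ ⟨j, rfl⟩
      refine (hφρ _).trans (Ideal.Quotient.eq_zero_iff_mem.2 ?_)
      simpa only [pow_one] using χ_sa_mem a ψ hker 1 j
  let A₁ := Ahat T r ⧸ Ideal.span {th T r ^ 1}
  let q₁ : Ahat T r →+* A₁ := Ideal.Quotient.mk _
  let g : MvPolynomial (Fin r) k →+* A₁ :=
    MvPolynomial.eval₂Hom ((q₁.comp (algebraMap (PowerSeries k) (Ahat T r))).comp (PowerSeries.C (R := k)))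
      (fun i => q₁ (ι T r (MvPolynomial.X i)))
  have hgρ : ∀ s, g (ρ s) = q₁ (ι T r s) := by
    intro s
    have h : g.comp ρ = q₁.comp (ι T r : MvPolynomial (Fin r) (PowerSeries k) →+* Ahat T r) := by
      refine MvPolynomial.ringHom_ext (fun b => ?_) fun i => ?_
      · simp only [RingHom.comp_apply, AlgHom.coe_toRingHom, ρ, MvPolynomial.map_C, g, MvPolynomial.eval₂Hom_C]
        rw [show ι T r (MvPolynomial.C b) = algebraMap (PowerSeries k) (Ahat T r) b from (ι T r).commutes b]
        refine (Ideal.Quotient.eq).2 ?_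
        rw [← map_sub]
        obtain ⟨e, he⟩ : T ∣ PowerSeries.C (PowerSeries.constantCoeff b) - b := PowerSeries.X_dvd_iff.2 (by simp)
        rw [he, map_mul, pow_one]
        exact Ideal.mul_mem_right _ _ (Ideal.mem_span_singleton_self _)
      · simp [ρ, g]
    exact RingHom.congr_fun h s
  have hgb : Function.Bijective g := by
    refine ⟨(injective_iff_map_eq_zero g).2 fun y hy => ?_, fun y => ?_⟩
    · obtain ⟨s, rfl⟩ := hρ y
      exact (hkerρ s).2 ((ι_mem_iff 1 s).1 (Ideal.Quotient.eq_zero_iff_mem.1 ((hgρ s).symm.trans hy)))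
    · obtain ⟨y, rfl⟩ := Ideal.Quotient.mk_surjective y
      obtain ⟨s, hs⟩ := exists_sub_mem 1 y
      exact ⟨ρ s, (hgρ s).trans ((Ideal.Quotient.eq).2 (by rw [← neg_sub]; exact neg_mem hs))⟩
  let e := RingEquiv.ofBijective g hgb
  have hkos : LCI.IsKoszulRegularSeq (MvPolynomial (Fin r) k) (List.ofFn ab) := by
    have h := Groth.KoszulLCI.isKoszulRegularSeq_of_ringEquiv e.symm
      (Groth.KoszulLCI.isKoszulRegularSeq_of_isWeaklyRegular hreg)
    convert h using 1
    rw [List.map_map, List.map_ofFn]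
    congr 1
    funext j
    simp only [Function.comp_apply, RingEquiv.toRingHom_eq_coe, RingEquiv.coe_toRingHom]
    rw [eq_comm, RingEquiv.symm_apply_eq]
    show q₁ (a j) = g (ρ (sa a 1 j))
    rw [hgρ]
    exact (Ideal.Quotient.eq).2 (sa_spec a 1 j)
  have hval : MvPolynomial.aeval (fun i => φ (MvPolynomial.X i)) = φ := MvPolynomial.algHom_ext fun i => by simp
  let G : Algebra.Generators k P (Fin r) :=
    Algebra.Generators.ofSurjective (fun i => φ (MvPolynomial.X i)) (by rw [hval]; exact hφ)
  have hkerG : ∀ y : MvPolynomial (Fin r) k, y ∈ G.toExtension.ker ↔ y ∈ Ideal.span (Set.range ab) := by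
    intro y
    rw [← hkerφ]
    simp only [Algebra.Extension.ker, RingHom.mem_ker]
    change MvPolynomial.aeval (fun i => φ (MvPolynomial.X i)) y = 0 ↔ φ.toRingHom y = 0
    rw [hval]
    rfl
  choose l hl using fun j => exists_χ ψ hψ 1 (v j)
  let cc : Fin c → MvPolynomial (Fin r) k := fun j => ρ (l j)
  have hcc : ∀ j, φ (cc j) = q (v j) := fun j =>
    (hφρ _).trans ((Ideal.Quotient.eq).2 (by rw [← neg_sub]; exact neg_mem (by simpa using hl j)))
  let y : MvPolynomial (Fin r) k := ∑ j, cc j * ab j
  have hy : y ∈ G.toExtension.ker := (hkerG _).2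
    (Submodule.sum_mem _ fun j _ => Ideal.mul_mem_left _ _ (Ideal.subset_span ⟨j, rfl⟩))
  have hab : ∀ j, φ (ab j) = 0 := fun j => by
    have : ab j ∈ RingHom.ker φ.toRingHom := hkerφ ▸ Ideal.subset_span ⟨j, rfl⟩
    exact this
  have hz : G.toExtension.cotangentComplex (Algebra.Extension.Cotangent.mk ⟨y, hy⟩) = 0 := by
    refine G.cotangentSpaceBasis.repr.injective (Finsupp.ext fun i => ?_)
    rw [map_zero, Finsupp.zero_apply, Algebra.Extension.cotangentComplex_mk,
      Algebra.Generators.cotangentSpaceBasis_repr_one_tmul]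
    show MvPolynomial.aeval (fun i => φ (MvPolynomial.X i)) (MvPolynomial.pderiv i y) = 0
    rw [hval, map_sum, map_sum]
    have hi := (mem_smul_pi (t := T) 1 (jacMap a ψ v)).1 (by rw [pow_one]; exact hv) i
    rw [pow_one, ← Ideal.Quotient.eq_zero_iff_mem] at hi
    rw [← hi]
    change _ = q (jacMap a ψ v i)
    rw [jacMap, Fintype.linearCombination_apply, Finset.sum_apply, map_sum]
    refine Finset.sum_congr rfl fun j _ => ?_
    rw [MvPolynomial.pderiv_mul, map_add, map_mul, map_mul, hab, mul_zero, zero_add, hcc, Pi.smul_apply, smul_eq_mul,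
      map_mul]
    congr 1
    rw [show MvPolynomial.pderiv i (ab j) = ρ (MvPolynomial.pderiv i (sa a 1 j)) from MvPolynomial.pderiv_map, hφρ]
    exact (Ideal.Quotient.eq).2 (by simpa [grad_apply] using (mem_smul_pi (t := T) 1 _).1 (jac_spec a ψ 1 j) i)
  let z : G.toExtension.H1Cotangent := ⟨Algebra.Extension.Cotangent.mk ⟨y, hy⟩, hz⟩
  intro j
  rw [← Ideal.Quotient.eq_zero_iff_mem]
  change q (v j) = 0
  by_contra hne
  obtain ⟨p, hp, hvp⟩ : ∃ p ∈ minimalPrimes P, q (v j) ∉ p := by
    by_contra h
    push Not at h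
    have hmem : q (v j) ∈ sInf (minimalPrimes P) := Ideal.mem_sInf.2 fun {p} hp => h p hp
    rw [show minimalPrimes P = (⊥ : Ideal P).minimalPrimes from rfl, Ideal.sInf_minimalPrimes, Ideal.mem_radical_iff] at hmem
    obtain ⟨N, hN⟩ := hmem
    exact hne (IsReduced.eq_zero _ ⟨N, hN⟩)
  obtain ⟨u, hu, huz⟩ := exists_smul_eq_zero_of_minimalPrimes G p hp z
  obtain ⟨u, rfl⟩ := hφ u
  have h1 : φ u • (Algebra.Extension.Cotangent.mk ⟨y, hy⟩ : G.toExtension.Cotangent) = 0 :=
    congrArg Subtype.val huz
  have h2 : (⟨u * y, G.toExtension.ker.mul_mem_left u hy⟩ : G.toExtension.ker).1 ∈ G.toExtension.ker ^ 2 := by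
    have halg : algebraMap G.toExtension.Ring P u = φ u := DFunLike.congr_fun hval u
    rw [← halg, algebraMap_smul, ← map_smul] at h1
    exact Ideal.toCotangent_eq_zero _ _ |>.1 (congrArg Algebra.Extension.Cotangent.val h1)
  have hsq : u * y ∈ Ideal.span (Set.range ab) ^ 2 := by
    have : G.toExtension.ker = Ideal.span (Set.range ab) := Ideal.ext hkerG
    rw [← this]
    exact h2
  have hli := Fintype.linearIndependent_iff.1 (Groth.Calg5.RelGCI.linearIndependent_toCotangent ab hkos)
    (fun j => Ideal.Quotient.mk _ (u * cc j))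
    (sum_smul_toCotangent_eq_zero ab (fun j => u * cc j) (by simpa [y, Finset.mul_sum, mul_assoc] using hsq)) j
  rw [Ideal.Quotient.eq_zero_iff_mem, ← hkerφ] at hli
  have h3 : φ u * q (v j) = 0 := by rw [← hcc, ← map_mul]; exact hli
  haveI := hp.1.1
  exact ((‹p.IsPrime›).mem_or_mem (h3 ▸ p.zero_mem)).elim hu hvp

end Fibre

end Groth.CompKaehler

end
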